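import Groth.Agent.AlgStLib.LocQ6
import Groth.Agent.AlgSpLib.Descend
import Groth.Agent.AlgSpLib.Univ
import Groth.Agent.AlgSpLib.Fppf
import Groth.Prelude.Def_StCoarse

/-! Categorical moduli spaces are local for flat maps. -/

set_option autoImplicit false
set_option linter.all false
set_option backward.isDefEq.respectTransparency false
set_option backward.isDefEq.respectTransparency.types false

noncomputable section

universe u

open CategoryTheory CategoryTheory.Limits AlgebraicGeometry Opposite AlgSp FibCat FibLib AlgSpLib AlgStLib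

namespace UnifModLib

variable {S : Scheme.{u}} {𝒳 : AlgSt.Cat S} {Y N : Sp S}

/-- The section of an object, as a morphism. -/
def σ {M : Sp S} (f : 𝒳 ⥤ᵇ AlgSt.ofSp M) (x : 𝒳.obj) : (yon S).obj (𝒳.p.obj x) ⟶ M :=
  yEq.symm (secOf f x)

lemma yEq_σ {M : Sp S} (f : 𝒳 ⥤ᵇ AlgSt.ofSp M) (x : 𝒳.obj) : yEq (σ f x) = secOf f x := yEq.apply_symm_apply _

lemma σ_nat {M : Sp S} (f : 𝒳 ⥤ᵇ AlgSt.ofSp M) {x x' : 𝒳.obj} (φ : x' ⟶ x) :
    (yon S).map (𝒳.p.map φ) ≫ σ f x = σ f x' := yEq.injective (by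
  rw [yEq_map, yEq_σ, yEq_σ]
  exact secOf_naturality f φ)

lemma secOf_comp {𝒲 : AlgSt.Cat S} (Φ : 𝒲 ⥤ᵇ 𝒳) {M : Sp S} (ψ : 𝒳 ⥤ᵇ AlgSt.ofSp M) (a : 𝒲.obj) :
    secOf (BasedFunctor.comp Φ ψ) a = M.obj.map (eqToHom (Φ.w_obj a).symm).op (secOf ψ (Φ.obj a)) := by
  simp only [secOf]
  refine Eq.trans ?_ (Functor.map_comp_apply M.obj _ _ _)
  erw [← op_comp, eqToHom_trans]
  rfl

lemma σ_comp {𝒲 : AlgSt.Cat S} (Φ : 𝒲 ⥤ᵇ 𝒳) {M : Sp S} (ψ : 𝒳 ⥤ᵇ AlgSt.ofSp M) (a : 𝒲.obj) :
    σ (BasedFunctor.comp Φ ψ) a = (yon S).map (eqToHom (Φ.w_obj a).symm) ≫ σ ψ (Φ.obj a) := yEq.injective (by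
  rw [yEq_σ, yEq_map, yEq_σ, secOf_comp])

lemma σ_ofSpMap {F M : Sp S} (g : F ⟶ M) (o : (AlgSt.ofSp F).obj) :
    σ (AlgSt.ofSpMap g) o = yEq.symm o.sec ≫ g := by
  show yEq.symm (secOf (AlgSt.ofSpMap g) o) = _
  rw [Equiv.symm_apply_eq]
  refine (secOf_ofPshMap g.hom o).trans ?_
  refine Eq.trans ?_ (yEq_comp (yEq.symm o.sec) g).symm
  exact congrArg _ (yEq.apply_symm_apply o.sec).symm

lemma σ_ofSch {T : Over S} {M : Sp S} (g : (yon S).obj T ⟶ M) (o : (AlgSt.ofSch T).obj) :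
    σ (AlgSt.ofSpMap g) o = (yon S).map o.sec.down ≫ g := by
  rw [σ_ofSpMap]
  congr 1

variable (f : 𝒳 ⥤ᵇ AlgSt.ofSp Y) (φ : 𝒳 ⥤ᵇ AlgSt.ofSp N)

/-- `h` factors `φ` over `g`. -/
def Eqn {T : Over S} (g : (yon S).obj T ⟶ Y) (h : (yon S).obj T ⟶ N) : Prop :=
  ∀ (x : 𝒳.obj) (t : 𝒳.p.obj x ⟶ T), (yon S).map t ≫ g = σ f x → (yon S).map t ≫ h = σ φ x

lemma Eqn.comp {T T' : Over S} {g : (yon S).obj T ⟶ Y} {h : (yon S).obj T ⟶ N} (H : Eqn f φ g h) (j : T' ⟶ T) :
    Eqn f φ ((yon S).map j ≫ g) ((yon S).map j ≫ h) := fun x t e => by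
  rw [← Functor.map_comp_assoc] at e ⊢
  exact H x _ e

lemma eqn_iff {T : Over S} (g : (yon S).obj T ⟶ Y) (h : (yon S).obj T ⟶ N) :
    Nonempty (BasedFunctor.comp (FibCat.fpFst (AlgSt.ofSpMap g) f) (AlgSt.ofSpMap h) ≅
      BasedFunctor.comp (FibCat.fpSnd (AlgSt.ofSpMap g) f) φ) ↔ Eqn f φ g h := by
  constructor
  · rintro ⟨i⟩ x t e
    let o : (AlgSt.ofSch T).obj := ⟨𝒳.p.obj x, ⟨t⟩⟩
    have he : (AlgSt.ofSpMap g).obj o = f.obj x := by
      rw [obj_eq f x]
      have : g.hom.app (op (𝒳.p.obj x)) (⟨t⟩ : ((yon S).obj T).obj.obj (op (𝒳.p.obj x))) = secOf f x := by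
        rw [← yEq_σ, ← e, yEq_comp]
        rfl
      exact congrArg (fun s => (⟨𝒳.p.obj x, s⟩ : Stk.EltObj Y.obj)) this
    let ξ : (fp (AlgSt.ofSpMap g) f).obj := fpObj o x (eqToIso he) (by
      rw [eqToIso.hom]
      exact IsHomLift.eqToHom_domain_lift_id (p := (AlgSt.ofSp Y).p) _ rfl)
    have hs : σ (BasedFunctor.comp (FibCat.fpFst (AlgSt.ofSpMap g) f) (AlgSt.ofSpMap h)) ξ =
        σ (BasedFunctor.comp (FibCat.fpSnd (AlgSt.ofSpMap g) f) φ) ξ := congrArg yEq.symm (secOf_iso i ξ)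
    rw [σ_comp, σ_comp, σ_ofSch] at hs
    have hs' : (yon S).map (𝟙 (𝒳.p.obj x)) ≫ ((yon S).map t ≫ h) = (yon S).map (𝟙 (𝒳.p.obj x)) ≫ σ φ x := hs
    simpa using hs'
  · intro H
    refine nonempty_iso_of_sec fun ξ => ?_
    refine yEq.symm.injective ?_
    change σ _ ξ = σ _ ξ
    have he : σ (BasedFunctor.comp (FibCat.fpFst (AlgSt.ofSpMap g) f) (AlgSt.ofSpMap g)) ξ =
        σ (BasedFunctor.comp (FibCat.fpSnd (AlgSt.ofSpMap g) f) f) ξ :=
      congrArg yEq.symm (secOf_iso (fpIso (AlgSt.ofSpMap g) f) ξ)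
    rw [σ_comp, σ_comp, σ_ofSch] at he ⊢
    let B : Over S := ξ.obj.fst.base
    let t₀ : B ⟶ T := ξ.obj.fst.sec.down
    have hb : B = 𝒳.p.obj ξ.obj.snd := (obj_snd_eq ξ).symm
    have he' : (yon S).map (𝟙 B) ≫ ((yon S).map t₀ ≫ g) = (yon S).map (eqToHom hb) ≫ σ f ξ.obj.snd := he
    show (yon S).map (𝟙 B) ≫ ((yon S).map t₀ ≫ h) = (yon S).map (eqToHom hb) ≫ σ φ ξ.obj.snd
    rw [CategoryTheory.Functor.map_id, Category.id_comp] at he' ⊢
    rw [← H ξ.obj.snd (eqToHom hb.symm ≫ t₀) (by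
      rw [Functor.map_comp, Category.assoc, he', ← Functor.map_comp_assoc, eqToHom_trans, eqToHom_refl,
        CategoryTheory.Functor.map_id, Category.id_comp])]
    rw [← Functor.map_comp_assoc, ← Category.assoc, eqToHom_trans, eqToHom_refl, Category.id_comp]

/-- Gluing along an fppf family. -/
lemma exists_glue {T : Over S} {κ : Type u} {V : κ → Over S} (c : ∀ k, V k ⟶ T) (hf : ∀ k, Flat (c k).left)
    (hp : ∀ k, LocallyOfFinitePresentation (c k).left) (hs : ∀ t : T.left, ∃ k, t ∈ Set.range (c k).left)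
    (x : ∀ k, (yon S).obj (V k) ⟶ N)
    (hx : ∀ k l (Z : Over S) (a : Z ⟶ V k) (b : Z ⟶ V l), a ≫ c k = b ≫ c l →
      (yon S).map a ≫ x k = (yon S).map b ≫ x l) :
    ∃! y : (yon S).obj T ⟶ N, ∀ k, (yon S).map (c k) ≫ y = x k := by
  have hsh := (Presieve.isSheafFor_iff_generate (Presieve.ofArrows V c)).2
    ((isSheaf_iff_isSheaf_of_type _ _).1 N.property _ (ofArrows_mem_J c hf hp hs))
  obtain ⟨s, hs₁, hs₂⟩ := (Presieve.isSheafFor_arrows_iff _ _).1 hsh (fun k => yEq (x k)) fun k l Z a b e => by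
    rw [← yEq_map, ← yEq_map, hx k l Z a b e]
  refine ⟨yEq.symm s, fun k => yEq.injective (by rw [yEq_map, Equiv.apply_symm_apply, hs₁ k]), fun y hy => ?_⟩
  rw [← hs₂ (yEq y) fun k => by rw [← yEq_map, hy k], Equiv.symm_apply_apply]

lemma glue_ext {T : Over S} {κ : Type u} {V : κ → Over S} (c : ∀ k, V k ⟶ T) (hf : ∀ k, Flat (c k).left)
    (hp : ∀ k, LocallyOfFinitePresentation (c k).left) (hs : ∀ t : T.left, ∃ k, t ∈ Set.range (c k).left)
    {y y' : (yon S).obj T ⟶ N} (h : ∀ k, (yon S).map (c k) ≫ y = (yon S).map (c k) ≫ y') : y = y' :=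
  (exists_glue c hf hp hs (fun k => (yon S).map (c k) ≫ y) fun k l Z a b e => by
    rw [← Functor.map_comp_assoc, e, Functor.map_comp_assoc]).unique (fun _ => rfl) fun k => (h k).symm

variable {f φ}

/-- The affine opens of a scheme. -/
lemma exists_affine_cover (T : Over S) : ∃ (κ : Type u) (V : κ → Over S) (c : ∀ k, V k ⟶ T),
    (∀ k, IsAffine (V k).left) ∧ (∀ k, IsOpenImmersion (c k).left) ∧ ∀ t : T.left, ∃ k, t ∈ Set.range (c k).left := by
  choose O hO htO using fun t : T.left =>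
    exists_isAffineOpen_mem_and_subset (U := ⊤) (x := t) trivial
  exact ⟨T.left, fun t => Over.mk ((O t).ι ≫ T.hom), fun t => Over.homMk (O t).ι rfl, fun t => hO t,
    fun t => inferInstanceAs (IsOpenImmersion (O t).ι), fun t => ⟨t, ⟨⟨t, (htO t).1⟩, rfl⟩⟩⟩

variable (hY : IsAlgSpace Y) [IsFibGrpd 𝒳.p]
  (H : ∀ (T : Over S), IsAffine T.left → ∀ g : (yon S).obj T ⟶ Y, LocP @Flat g →
    ∃! h : (yon S).obj T ⟶ N, Eqn f φ g h)

include hY in
lemma flat_restrict {T T' : Over S} (j : T' ⟶ T) [AlgebraicGeometry.Flat j.left] {g : (yon S).obj T ⟶ Y} (hg : LocP @Flat g) :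
    LocP @Flat ((yon S).map j ≫ g) :=
  locP_comp (IsAlgSpace.yon_obj _) (IsAlgSpace.yon_obj _) hY ((locP_yon_map_iff (P := @Flat) j).2 inferInstance) hg

include hY H in
lemma eqn_ext {T : Over S} {g : (yon S).obj T ⟶ Y} (hg : LocP @Flat g) {h h' : (yon S).obj T ⟶ N}
    (e : Eqn f φ g h) (e' : Eqn f φ g h') : h = h' := by
  obtain ⟨κ, V, c, hV, hc, hcov⟩ := exists_affine_cover T
  refine glue_ext c (fun k => ?_) (fun k => ?_) hcov fun k => ?_
  · haveI := hc k; infer_instance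
  · haveI := hc k; infer_instance
  · haveI := hc k
    exact (H (V k) (hV k) _ (flat_restrict hY (c k) hg)).unique (e.comp (j := c k)) (e'.comp (j := c k))

include hY H in
lemma exists_eqn {T : Over S} {g : (yon S).obj T ⟶ Y} (hg : LocP @Flat g) :
    ∃ h : (yon S).obj T ⟶ N, Eqn f φ g h := by
  obtain ⟨κ, V, c, hV, hc, hcov⟩ := exists_affine_cover T
  haveI := fun k => hc k
  choose h hh using fun k => (H (V k) (hV k) _ (flat_restrict hY (c k) hg)).exists
  obtain ⟨y, hy, -⟩ := exists_glue c (fun k => inferInstance) (fun k => inferInstance) hcov h fun k l Z a b e => by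
    let I := pullback (c k) (c l)
    have sq := (IsPullback.of_hasPullback (c k) (c l)).map (Over.forget S)
    haveI : Flat (pullback.fst (c k) (c l)).left :=
      MorphismProperty.of_isPullback sq.flip (inferInstance : Flat (c l).left)
    have key : (yon S).map (pullback.fst (c k) (c l)) ≫ h k = (yon S).map (pullback.snd (c k) (c l)) ≫ h l := by
      refine eqn_ext hY H (flat_restrict hY (pullback.fst (c k) (c l)) (flat_restrict hY (c k) hg))
        ((hh k).comp (j := pullback.fst (c k) (c l))) ?_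
      rw [← Functor.map_comp_assoc, pullback.condition, Functor.map_comp_assoc]
      exact (hh l).comp (j := pullback.snd (c k) (c l))
    calc (yon S).map a ≫ h k = (yon S).map (pullback.lift a b e) ≫ (yon S).map (pullback.fst (c k) (c l)) ≫ h k := by
          rw [← Functor.map_comp_assoc, pullback.lift_fst]
      _ = (yon S).map b ≫ h l := by rw [key, ← Functor.map_comp_assoc, pullback.lift_snd]
  refine ⟨y, fun x t e => ?_⟩
  have sq := fun k => (IsPullback.of_hasPullback t (c k)).map (Over.forget S)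
  haveI : ∀ k, Flat (pullback.fst t (c k)).left := fun k =>
    MorphismProperty.of_isPullback (sq k).flip (inferInstance : Flat (c k).left)
  haveI : ∀ k, LocallyOfFinitePresentation (pullback.fst t (c k)).left := fun k =>
    MorphismProperty.of_isPullback (sq k).flip (inferInstance : LocallyOfFinitePresentation (c k).left)
  refine glue_ext (fun k => pullback.fst t (c k)) (fun k => inferInstance) (fun k => inferInstance) (fun s => ?_)
    fun k => ?_
  · obtain ⟨k, v, hv⟩ := hcov (t.left s)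
    obtain ⟨w, hw, -⟩ := Scheme.Pullback.exists_preimage_pullback (f := t.left) (g := (c k).left) s v hv.symm
    refine ⟨k, (sq k).isoPullback.inv w, ?_⟩
    show ((sq k).isoPullback.inv ≫ (pullback.fst t (c k)).left) w = s
    rw [show (pullback.fst t (c k)).left = (Over.forget S).map (pullback.fst t (c k)) from rfl,
      IsPullback.isoPullback_inv_fst]
    exact hw
  · obtain ⟨x', m, hm⟩ := exists_lift 𝒳.p (a := x) rfl (pullback.fst t (c k))
    have hb : 𝒳.p.obj x' = pullback t (c k) := IsHomLift.domain_eq 𝒳.p (pullback.fst t (c k)) m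
    have hpm : 𝒳.p.map m = eqToHom hb ≫ pullback.fst t (c k) := by
      rw [IsHomLift.fac' 𝒳.p (pullback.fst t (c k)) m]
      simp
    have h1 := hh k x' (eqToHom hb ≫ pullback.snd t (c k)) (by
      rw [← σ_nat f m, hpm, Functor.map_comp, Functor.map_comp, Category.assoc, Category.assoc,
        ← Functor.map_comp_assoc (yon S) (pullback.snd t (c k)), ← pullback.condition, Functor.map_comp_assoc, e])
    rw [← cancel_epi ((yon S).map (eqToHom hb))]
    rw [← Functor.map_comp_assoc _ (eqToHom hb), ← Functor.map_comp_assoc _ (eqToHom hb) _ (σ φ x), ← hpm,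
      σ_nat φ m, ← h1]
    rw [hpm, Functor.map_comp_assoc, ← Functor.map_comp_assoc _ (pullback.fst t (c k)), pullback.condition,
      Functor.map_comp_assoc, hy k, Functor.map_comp_assoc]

include hY H in
/-- A factorisation exists uniquely when it does after every affine flat base change. -/
theorem existsUnique_factor : ∃! g : Y ⟶ N, Nonempty (BasedFunctor.comp f (AlgSt.ofSpMap g) ≅ φ) := by
  have key : ∀ g : Y ⟶ N, Nonempty (BasedFunctor.comp f (AlgSt.ofSpMap g) ≅ φ) ↔ ∀ x, σ f x ≫ g = σ φ x := by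
    intro g
    have e : ∀ x, σ (BasedFunctor.comp f (AlgSt.ofSpMap g)) x = σ f x ≫ g := fun x => by
      rw [σ_comp, σ_ofSpMap]
      rw [← Category.assoc]
      congr 1
      refine yEq.injective ?_
      refine (yEq_map _ _).trans ?_
      refine Eq.trans ?_ (yEq_σ f x).symm
      exact congrArg (Y.obj.map _) (yEq.apply_symm_apply (f.obj x).sec)
    refine ⟨fun ⟨i⟩ x => (e x).symm.trans (congrArg yEq.symm (secOf_iso i x)), fun h => nonempty_iso_of_sec fun x => ?_⟩
    exact yEq.symm.injective ((e x).trans (h x))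
  simp only [key]
  obtain ⟨U, a, ha, has⟩ := hY.atlas
  have hfl : LocP @Flat a := locP_mono (fun _ _ g (hg : Etale g) => inferInstanceAs (Flat g))
    (locP_etale_of_isEtaleMor (isEtaleMor_of_repWith ha))
  obtain ⟨h, hh⟩ := exists_eqn hY H hfl
  obtain ⟨g, hg⟩ := exists_desc_of_atlas ha has h fun Z b b' e => by
    obtain ⟨R, p, q, sq⟩ := exists_isPullback_yon a a ha.rep
    haveI : Etale p.left := etale_left (repWith_of_isPullback sq.flip ha)
    have key : (yon S).map p ≫ h = (yon S).map q ≫ h := by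
      refine eqn_ext hY H (flat_restrict hY p hfl) (hh.comp (j := p)) ?_
      rw [sq.w]
      exact hh.comp (j := q)
    obtain ⟨l, hl⟩ := (yon S).map_surjective (sq.lift _ _ e)
    calc (yon S).map b ≫ h = (yon S).map l ≫ (yon S).map p ≫ h := by
          rw [hl, sq.lift_fst_assoc]
      _ = (yon S).map b' ≫ h := by rw [key, hl, sq.lift_snd_assoc]
  refine ⟨g, fun x => ?_, fun g' hg' => ?_⟩
  · obtain ⟨W, p, c, sq⟩ := exists_isPullback_yon a (σ f x) ha.rep
    haveI : Etale c.left := etale_left (repWith_of_isPullback sq ha)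
    haveI : Surjective c.left := surjective_left (repWith_of_isPullback sq has)
    refine glue_ext (κ := PUnit.{u + 1}) (fun _ => c) (fun _ => inferInstance) (fun _ => inferInstance)
      (fun t => ⟨⟨⟩, c.left.surjective t⟩) fun _ => ?_
    obtain ⟨x', m, hm⟩ := exists_lift 𝒳.p (a := x) rfl c
    have hb : 𝒳.p.obj x' = W := IsHomLift.domain_eq 𝒳.p c m
    have hpm : 𝒳.p.map m = eqToHom hb ≫ c := by
      rw [IsHomLift.fac' 𝒳.p c m]
      simp
    have h1 := hh x' (eqToHom hb ≫ p) (by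
      rw [← σ_nat f m, hpm, Functor.map_comp, Functor.map_comp, Category.assoc, Category.assoc, sq.w])
    rw [← σ_nat φ m, hpm, Functor.map_comp, Functor.map_comp, Category.assoc, Category.assoc, cancel_epi, ← hg,
      ← Category.assoc, sq.w] at h1
    rw [← h1]
    simp [Category.assoc]
  · haveI : Sheaf.IsLocallySurjective a := isLocallySurjective_of_repWith
      (repWith_mono (fun _ _ g (hg : Etale g) => inferInstanceAs (Flat g)) ha)
      (repWith_mono (fun _ _ g (hg : Etale g) => inferInstanceAs (LocallyOfFinitePresentation g)) ha) has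
    refine (cancel_epi a).1 ?_
    rw [hg]
    refine eqn_ext hY H hfl (fun x t e => ?_) hh
    rw [← Category.assoc, e]
    exact hg' x

end UnifModLib
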