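import Groth.Agent.UnifModLib.Basic

/-! Uniform categorical moduli spaces from affine flat base changes. -/

set_option autoImplicit false
set_option linter.all false
set_option backward.isDefEq.respectTransparency false
set_option backward.isDefEq.respectTransparency.types false

noncomputable section

universe u

open CategoryTheory CategoryTheory.Limits AlgebraicGeometry Opposite AlgSp FibCat FibLib AlgSpLib AlgStLib

namespace UnifModLib

variable {S : Scheme.{u}} {𝒳 𝒲 : AlgSt.Cat S} {Y : Sp S}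

/-- Categorical moduli spaces pass through equivalences. -/
theorem isCatModuli_equiv_comp {E : 𝒲 ⥤ᵇ 𝒳} (hE : IsEquivOver E) {π : 𝒳 ⥤ᵇ AlgSt.ofSp Y}
    (h : AlgSt.IsCatModuli π) : AlgSt.IsCatModuli (BasedFunctor.comp E π) := by
  obtain ⟨E', -, ⟨μ⟩, ⟨ν⟩⟩ := exists_inverse hE
  refine ⟨h.1, fun N hN φ => ?_⟩
  obtain ⟨g, ⟨i⟩, hu⟩ := h.2 N hN (BasedFunctor.comp E' φ)
  refine ⟨g, ⟨whiskerLeftIso' E i ≪≫ whiskerRightIso' μ φ⟩, fun g' ⟨i'⟩ => hu g' ⟨?_⟩⟩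
  exact (whiskerRightIso' ν (BasedFunctor.comp π (AlgSt.ofSpMap g'))).symm ≪≫ whiskerLeftIso' E' i'

/-- Categorical moduli spaces are local for affine flat maps. -/
theorem isCatModuli_of_affine [IsFibGrpd 𝒳.p] (hY : IsAlgSpace Y) (f : 𝒳 ⥤ᵇ AlgSt.ofSp Y)
    (h : ∀ (T : Over S), IsAffine T.left → ∀ g : (yon S).obj T ⟶ Y, LocP @Flat g →
      AlgSt.IsCatModuli (FibCat.fpFst (AlgSt.ofSpMap g) f)) :
    AlgSt.IsCatModuli f := by
  refine ⟨hY, fun N hN φ => existsUnique_factor (f := f) (φ := φ) hY fun T hT g hg => ?_⟩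
  obtain ⟨k, hk, hu⟩ := (h T hT g hg).2 N hN (BasedFunctor.comp (FibCat.fpSnd (AlgSt.ofSpMap g) f) φ)
  exact ⟨k, (eqn_iff f φ g k).1 hk, fun k' hk' => hu k' ((eqn_iff f φ g k').2 hk')⟩

theorem isUnifCatModuli_of_affine (h𝒳 : AlgSt.IsAlgStack Scheme.fppfPrecoverage 𝒳) (hY : IsAlgSpace Y)
    (f : 𝒳 ⥤ᵇ AlgSt.ofSp Y)
    (h : ∀ (T : Over S), IsAffine T.left → ∀ g : (yon S).obj T ⟶ Y, LocP @Flat g →
      AlgSt.IsCatModuli (FibCat.fpFst (AlgSt.ofSpMap g) f)) :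
    AlgSt.IsUnifCatModuli f := by
  haveI := isFibGrpd_of_isAlgStack h𝒳
  refine ⟨isCatModuli_of_affine hY f h, fun M' hM' g hg => ?_⟩
  haveI : IsFibGrpd (AlgSt.ofSp M').p := Stk.isFibGrpd_ofPsh _
  haveI : IsFibGrpd (AlgSt.ofSp Y).p := Stk.isFibGrpd_ofPsh _
  haveI : IsFibGrpd (fp (AlgSt.ofSpMap g) f).p := isFibGrpd_fp
  refine isCatModuli_of_affine hM' _ fun T hT g' hg' => ?_
  have := h T hT (g' ≫ g) (locP_comp (IsAlgSpace.yon_obj T) hM' hY hg' hg)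
  exact isCatModuli_equiv_comp (isEquivOver_fpPaste (AlgSt.ofSpMap g') (AlgSt.ofSpMap g) f) this

end UnifModLib
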